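import Groth.Agent.FormalFib6.Transfer
import Groth.Agent.IntBC.Main
import Groth.Agent.LocalCrit.Complete
import Mathlib.RingTheory.Flat.Localization

/-!
# The fibres of the map to an adic completion
-/

namespace Groth.Agent.FormalFib6

universe u

open TensorProduct IsLocalRing FlatLoc6

/-- The adic completion of a Noetherian ring is Noetherian. -/
theorem isNoetherianRing_adicCompletion (A : Type u) [CommRing A] [IsNoetherianRing A] (I : Ideal A) :
    IsNoetherianRing (AdicCompletion I A) := by
  have fg : I.FG := IsNoetherian.noetherian _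
  haveI := AdicCompletion.isAdicComplete_self I fg
  let e : AdicCompletion I A ⧸ I.map (algebraMap A (AdicCompletion I A)) ≃+* A ⧸ I :=
    (Ideal.quotEquivOfEq (AdicCompletion.ker_evalOneₐ_eq_map I fg).symm).trans
      (RingHom.quotientKerEquivOfSurjective (f := (AdicCompletion.evalOneₐ I).toRingHom)
        (AdicCompletion.evalOneₐ_surjective I))
  haveI : IsNoetherianRing (AdicCompletion I A ⧸ I.map (algebraMap A (AdicCompletion I A))) :=
    isNoetherianRing_of_ringEquiv _ e.symm
  exact LocalCrit.isNoetherianRing_of_isAdicComplete (I.map (algebraMap A (AdicCompletion I A))) (fg.map _)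

/-- At a maximal ideal an adic completion maps faithfully flatly to the completion of the base at the
maximal ideal below. -/
theorem exists_atMaximal (A : Type u) [CommRing A] [IsNoetherianRing A] (I : Ideal A)
    (M : Ideal (AdicCompletion I A)) [M.IsMaximal] :
    ∃ (m : Ideal A) (_ : m.IsMaximal)
      (_ : Algebra (Localization.AtPrime M) (EGA4.Cpl (Localization.AtPrime m))),
      IsScalarTower A (Localization.AtPrime M) (EGA4.Cpl (Localization.AtPrime m)) ∧
        Module.FaithfullyFlat (Localization.AtPrime M) (EGA4.Cpl (Localization.AtPrime m)) := by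
  have fg : I.FG := IsNoetherian.noetherian _
  haveI := AdicCompletion.isAdicComplete_self I fg
  have hIM : I.map (algebraMap A (AdicCompletion I A)) ≤ M :=
    (IsAdicComplete.le_jacobson_bot _).trans (sInf_le ⟨bot_le, ‹M.IsMaximal›⟩)
  let m : Ideal A := M.comap (algebraMap A (AdicCompletion I A))
  have hIm : I ≤ m := Ideal.map_le_iff_le_comap.mp hIM
  haveI hm : m.IsMaximal := by
    have h1 : (M.map (AdicCompletion.evalOneₐ I).toRingHom).IsMaximal :=
      Ideal.IsMaximal.map_of_surjective_of_ker_le (f := (AdicCompletion.evalOneₐ I).toRingHom)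
        (AdicCompletion.evalOneₐ_surjective I)
        ((AdicCompletion.ker_evalOneₐ_eq_map I fg).le.trans hIM)
    have h2 : (M.map (AdicCompletion.evalOneₐ I).toRingHom).comap (AdicCompletion.evalOneₐ I).toRingHom = M := by
      rw [Ideal.comap_map_of_surjective' (AdicCompletion.evalOneₐ I).toRingHom (AdicCompletion.evalOneₐ_surjective I),
        AdicCompletion.ker_evalOneₐ_eq_map I fg, sup_eq_left]
      exact hIM
    show (M.comap (algebraMap A (AdicCompletion I A))).IsMaximal
    rw [← h2, Ideal.comap_comap, AdicCompletion.evalOneₐ_comp_algebraMap_eq_mk]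
    exact Ideal.comap_isMaximal_of_surjective _ Ideal.Quotient.mk_surjective
  let Am := Localization.AtPrime m
  let mm := maximalIdeal Am
  let C := EGA4.Cpl Am
  have fgm : mm.FG := IsNoetherian.noetherian _
  haveI := isLocalRing_cpl Am
  haveI := isNoetherianRing_cpl Am
  haveI := faithfullyFlat_cpl Am
  haveI : Module.Flat A C := Module.Flat.trans A Am C
  have hmI : ∀ n, I ^ n ≤ (mm ^ n).comap (algebraMap A Am) := fun n => by
    rw [← Ideal.map_le_iff_le_comap, Ideal.map_pow]
    refine Ideal.pow_right_mono ?_ n
    rw [Ideal.map_le_iff_le_comap]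
    intro a ha
    exact (IsLocalization.AtPrime.to_map_mem_maximal_iff Am m a).mpr (hIm ha)
  have hcompat : ∀ {i n : ℕ} (hle : i ≤ n), (Ideal.Quotient.factorPow mm hle).comp
      ((Ideal.quotientMap (mm ^ n) (algebraMap A Am) (hmI n)).comp (AdicCompletion.evalₐ I n).toRingHom) =
      (Ideal.quotientMap (mm ^ i) (algebraMap A Am) (hmI i)).comp (AdicCompletion.evalₐ I i).toRingHom := by
    intro i n hle
    refine RingHom.ext fun x => ?_
    obtain ⟨g, rfl⟩ := AdicCompletion.mk_surjective I A x
    simp only [RingHom.comp_apply, AlgHom.toRingHom_eq_coe, RingHom.coe_coe, AdicCompletion.evalₐ_mk,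
      Ideal.quotientMap_mk]
    show Ideal.Quotient.mk _ (algebraMap A Am (g n)) = Ideal.Quotient.mk _ (algebraMap A Am (g i))
    rw [Ideal.Quotient.eq, ← map_sub]
    refine hmI i ?_
    simpa using neg_mem (SModEq.sub_mem.1 (g.property hle))
  let F : AdicCompletion I A →+* C := AdicCompletion.liftRingHom mm _ hcompat
  letI : Algebra (AdicCompletion I A) C := F.toAlgebra
  haveI : IsScalarTower A (AdicCompletion I A) C := IsScalarTower.of_algebraMap_eq fun a => by
    refine AdicCompletion.ext_evalₐ fun n => ?_
    rw [IsScalarTower.algebraMap_apply A Am C, AlgHom.commutes]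
    show _ = AdicCompletion.evalₐ mm n (F (algebraMap A (AdicCompletion I A) a))
    rw [AdicCompletion.evalₐ_liftRingHom, RingHom.comp_apply, AlgHom.toRingHom_eq_coe, RingHom.coe_coe,
      AlgHom.commutes]
    rfl
  have hmC : m.map (algebraMap A C) ≤ maximalIdeal C := by
    rw [IsScalarTower.algebraMap_eq A Am C, ← Ideal.map_map, Localization.AtPrime.map_eq_maximalIdeal,
      AdicCompletion.maximalIdeal_eq_map_of_fg fgm]
  haveI := isNoetherianRing_adicCompletion A I
  haveI : Module.Flat (AdicCompletion I A) C := by
    refine flat_of_dense I (fun n r => ?_) ((Ideal.map_mono hIm).trans (hmC.trans (maximalIdeal_le_jacobson _)))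
    obtain ⟨a, ha⟩ := Submodule.mkQ_surjective _ (AdicCompletion.eval I A n r)
    refine ⟨a, ?_⟩
    rw [← LocalCrit.smul_top_eq_map, AdicCompletion.pow_smul_top_eq_ker_eval fg, LinearMap.mem_ker, map_sub,
      ← ha, sub_eq_zero]
    exact (AdicCompletion.eval_of _ _ n a).symm
  have hM : (maximalIdeal C).comap F = M := by
    have hmM : (m.map (algebraMap A (AdicCompletion I A))).IsMaximal :=
      AdicCompletion.isMaximal_map_of_le I m hIm fg
    have e1 : m.map (algebraMap A (AdicCompletion I A)) = M :=
      hmM.eq_of_le ‹M.IsMaximal›.ne_top (Ideal.map_le_iff_le_comap.mpr le_rfl)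
    refine (hmM.eq_of_le (Ideal.IsPrime.ne_top (Ideal.comap_isPrime F (maximalIdeal C))) ?_).symm.trans e1
    rw [Ideal.map_le_iff_le_comap, Ideal.comap_comap,
      show F.comp (algebraMap A (AdicCompletion I A)) = algebraMap A C from
        (IsScalarTower.algebraMap_eq A (AdicCompletion I A) C).symm, ← Ideal.map_le_iff_le_comap]
    exact hmC
  have hunit : ∀ y : M.primeCompl, IsUnit (F y) := fun y => by
    by_contra h
    have h' : (y : AdicCompletion I A) ∈ (maximalIdeal C).comap F :=
      ((mem_maximalIdeal _).mpr h : F y ∈ maximalIdeal C)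
    rw [hM] at h'
    exact y.2 h'
  letI : Algebra (Localization.AtPrime M) C := (IsLocalization.lift hunit).toAlgebra
  haveI : IsScalarTower (AdicCompletion I A) (Localization.AtPrime M) C :=
    IsScalarTower.of_algebraMap_eq fun x => (IsLocalization.lift_eq hunit x).symm
  haveI : IsScalarTower A (Localization.AtPrime M) C := IsScalarTower.of_algebraMap_eq fun a => by
    rw [IsScalarTower.algebraMap_apply A (AdicCompletion I A) (Localization.AtPrime M),
      ← IsScalarTower.algebraMap_apply (AdicCompletion I A) (Localization.AtPrime M) C,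
      ← IsScalarTower.algebraMap_apply]
  haveI : Module.Flat (Localization.AtPrime M) C :=
    (Module.flat_iff_of_isLocalization (R := AdicCompletion I A) (Localization.AtPrime M) M.primeCompl C).mpr
      inferInstance
  haveI : IsLocalHom (algebraMap (Localization.AtPrime M) C) := by
    refine ((local_hom_TFAE (algebraMap (Localization.AtPrime M) C)).out 0 2).mpr ?_
    refine (Ideal.map_mono (Localization.AtPrime.map_eq_maximalIdeal (I := M)).ge).trans ?_
    rw [Ideal.map_map, ← IsScalarTower.algebraMap_eq, Ideal.map_le_iff_le_comap]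
    exact hM.ge
  exact ⟨m, hm, inferInstance, inferInstance, Module.FaithfullyFlat.of_flat_of_isLocalHom⟩

/-- A field over `A` seen on the completion at a maximal ideal. -/
theorem normal_field_tensor_cpl {A : Type u} [CommRing A] [IsNoetherianRing A] (m : Ideal A) [m.IsPrime]
    (h : EGA4.HasGeomNormalFormalFibres (Localization.AtPrime m)) (L : Type u) [Field L] [Algebra A L]
    [Algebra.EssFiniteType A L] : EGA4.IsNormalRing (L ⊗[A] EGA4.Cpl (Localization.AtPrime m)) := by
  let Am := Localization.AtPrime m
  let C := EGA4.Cpl Am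
  by_cases hu : ∀ a : m.primeCompl, IsUnit (algebraMap A L a)
  · letI : Algebra Am L := (IsLocalization.lift hu).toAlgebra
    haveI : IsScalarTower A Am L := IsScalarTower.of_algebraMap_eq fun a => (IsLocalization.lift_eq hu a).symm
    haveI : (RingHom.ker (algebraMap Am L)).IsPrime := RingHom.ker_isPrime _
    obtain ⟨_, _⟩ := exists_residueAlgebra (L := L) (RingHom.ker (algebraMap Am L)) rfl
    let p := RingHom.ker (algebraMap Am L)
    haveI : IsScalarTower A p.ResidueField L := IsScalarTower.to₁₃₄ A Am p.ResidueField L
    haveI : Algebra.EssFiniteType p.ResidueField L := Algebra.EssFiniteType.of_comp A _ _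
    haveI := isNoetherianRing_cpl Am
    haveI := isNoetherianRing_fiber (B := C) p
    have h1 := (normal_tensor_of_isGeomNormal (h p) L).2
    let e : L ⊗[p.ResidueField] p.Fiber C ≃+* L ⊗[A] C :=
      (Algebra.TensorProduct.cancelBaseChange Am p.ResidueField L L C).toRingEquiv.trans
        (IsLocalization.algebraTensorEquiv m.primeCompl Am L C).toRingEquiv
    exact isNormalRing_of_ringEquiv e h1
  · push Not at hu
    obtain ⟨a, ha⟩ := hu
    have ha0 : algebraMap A L a = 0 := by
      by_contra h0
      exact ha (Ne.isUnit h0)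
    intro Q _
    refine absurd ?_ (Ideal.IsPrime.ne_top (I := Q) inferInstance)
    refine Ideal.eq_top_of_isUnit_mem Q (Q.zero_mem : (0 : L ⊗[A] C) ∈ Q) ?_
    have hu1 : IsUnit (algebraMap A (L ⊗[A] C) a) := by
      rw [← (Algebra.TensorProduct.includeRight (R := A) (A := L) (B := C)).commutes]
      refine IsUnit.map _ ?_
      rw [IsScalarTower.algebraMap_apply A Am C]
      exact (IsLocalization.map_units Am a).map _
    rwa [show algebraMap A (L ⊗[A] C) a = 0 by
      rw [Algebra.TensorProduct.algebraMap_apply, ha0, zero_tmul]] at hu1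

/-- The reduced version. -/
theorem reduced_field_tensor_cpl {A : Type u} [CommRing A] [IsNoetherianRing A] (m : Ideal A) [m.IsPrime]
    (h : EGA4.HasGeomReducedFormalFibres (Localization.AtPrime m)) (L : Type u) [Field L] [Algebra A L] :
    IsReduced (L ⊗[A] EGA4.Cpl (Localization.AtPrime m)) := by
  let Am := Localization.AtPrime m
  let C := EGA4.Cpl Am
  by_cases hu : ∀ a : m.primeCompl, IsUnit (algebraMap A L a)
  · letI : Algebra Am L := (IsLocalization.lift hu).toAlgebra
    haveI : IsScalarTower A Am L := IsScalarTower.of_algebraMap_eq fun a => (IsLocalization.lift_eq hu a).symm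
    haveI := isReduced_baseChange_field C h L
    let e := (IsLocalization.algebraTensorEquiv m.primeCompl Am L C).symm
    exact isReduced_of_injective e e.injective
  · push Not at hu
    obtain ⟨a, ha⟩ := hu
    have ha0 : algebraMap A L a = 0 := by
      by_contra h0
      exact ha (Ne.isUnit h0)
    have hu1 : IsUnit (algebraMap A (L ⊗[A] C) a) := by
      rw [← (Algebra.TensorProduct.includeRight (R := A) (A := L) (B := C)).commutes]
      refine IsUnit.map _ ?_
      rw [IsScalarTower.algebraMap_apply A Am C]
      exact (IsLocalization.map_units Am a).map _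
    rw [show algebraMap A (L ⊗[A] C) a = 0 by
      rw [Algebra.TensorProduct.algebraMap_apply, ha0, zero_tmul]] at hu1
    haveI := isUnit_zero_iff.mp hu1
    exact ⟨fun x _ => eq_of_zero_eq_one (isUnit_zero_iff.mp hu1) x 0⟩

/-- Base change of a localization along the left factor. -/
theorem isLocalization_map (A E B C : Type u) [CommRing A] [CommRing E] [CommRing B] [CommRing C] [Algebra A E]
    [Algebra A B] [Algebra A C] [Algebra B C] [IsScalarTower A B C] (M : Submonoid B) [IsLocalization M C] :
    letI := (Algebra.TensorProduct.map (AlgHom.id A E) (IsScalarTower.toAlgHom A B C)).toAlgebra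
    IsLocalization (M.map (Algebra.TensorProduct.includeRight (R := A) (A := E))) (E ⊗[A] C) := by
  letI := (Algebra.TensorProduct.map (AlgHom.id A E) (IsScalarTower.toAlgHom A B C)).toAlgebra
  haveI : IsScalarTower E (E ⊗[A] B) (E ⊗[A] C) :=
    .of_algebraMap_eq <| by intro; simp [RingHom.algebraMap_toAlgebra]
  exact IsLocalization.tensorProduct_tensorProduct_right A E M C (by ext; simp [RingHom.algebraMap_toAlgebra])

/-- Base change of a faithfully flat map is injective. -/
theorem injective_map_of_faithfullyFlat (A B C L : Type u) [CommRing A] [CommRing B] [CommRing C] [CommRing L]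
    [Algebra A B] [Algebra A C] [Algebra A L] [Algebra B C] [IsScalarTower A B C] [Module.FaithfullyFlat B C] :
    Function.Injective (Algebra.TensorProduct.map (AlgHom.id A L) (IsScalarTower.toAlgHom A B C)) := by
  have h1 : Function.Injective (algebraMap (B ⊗[A] L) ((B ⊗[A] L) ⊗[B] C)) :=
    FaithfulSMul.algebraMap_injective _ _
  let e₁ := Algebra.TensorProduct.comm A L B
  let e₂ := (Algebra.TensorProduct.cancelBaseChange A B C C L).toRingEquiv
  have hcomm : ∀ z, Algebra.TensorProduct.comm A C L
      (e₂ (Algebra.TensorProduct.comm B (B ⊗[A] L) C (algebraMap (B ⊗[A] L) ((B ⊗[A] L) ⊗[B] C) (e₁ z)))) =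
      Algebra.TensorProduct.map (AlgHom.id A L) (IsScalarTower.toAlgHom A B C) z := by
    intro z
    induction z using TensorProduct.induction_on with
    | zero => simp only [map_zero]
    | tmul l b => simp [e₁, e₂, Algebra.TensorProduct.algebraMap_apply, Algebra.smul_def]
    | add u v hu hv => simp only [map_add, hu, hv]
  intro z w hzw
  rw [← hcomm, ← hcomm] at hzw
  exact e₁.injective (h1 ((Algebra.TensorProduct.comm B _ C).injective
    (e₂.injective ((Algebra.TensorProduct.comm A C L).injective hzw))))

/-- The fibres of `A → Â` are geometrically normal. -/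
theorem isNormalHom_adicCompletion (A : Type u) [CommRing A] [IsNoetherianRing A]
    (hA : ∀ (p : Ideal A) [p.IsPrime], EGA4.HasGeomNormalFormalFibres (Localization.AtPrime p)) (I : Ideal A) :
    EGA4.IsNormalHom A (AdicCompletion I A) := by
  refine ⟨inferInstance, fun p _ L _ _ hL => ?_⟩
  letI : Algebra A L := ((algebraMap p.ResidueField L).comp (algebraMap A p.ResidueField)).toAlgebra
  haveI : IsScalarTower A p.ResidueField L := IsScalarTower.of_algebraMap_eq' rfl
  haveI : Algebra.EssFiniteType A L := Algebra.EssFiniteType.comp A p.ResidueField L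
  let Ah := AdicCompletion I A
  haveI := isNoetherianRing_adicCompletion A I
  refine isNormalRing_of_ringEquiv
    (R := L ⊗[A] Ah) (Algebra.TensorProduct.cancelBaseChange A p.ResidueField L L Ah).toRingEquiv.symm ?_
  refine IntBC.normal_of_local fun q _ => ?_
  obtain ⟨M, hM, hqM⟩ := Ideal.exists_le_maximal q (Ideal.IsPrime.ne_top inferInstance)
  obtain ⟨m, _, _, _, _⟩ := exists_atMaximal A I M
  let AM := Localization.AtPrime M
  let C := EGA4.Cpl (Localization.AtPrime m)
  haveI := isNoetherianRing_cpl (Localization.AtPrime m)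
  have hC : NoethNormal (L ⊗[p.ResidueField] p.Fiber C) := by
    haveI : IsNoetherianRing (C ⊗[A] L) := Algebra.EssFiniteType.isNoetherianRing C _
    let e := (Algebra.TensorProduct.cancelBaseChange A p.ResidueField L L C).toRingEquiv
    exact ⟨isNoetherianRing_of_ringEquiv (C ⊗[A] L)
      ((Algebra.TensorProduct.comm A C L).toRingEquiv.trans e.symm),
      isNormalRing_of_ringEquiv e.symm (normal_field_tensor_cpl m (hA m) L)⟩
  have hB : EGA4.IsNormalRing (L ⊗[A] AM) :=
    isNormalRing_of_ringEquiv (Algebra.TensorProduct.cancelBaseChange A p.ResidueField L L AM).toRingEquiv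
      (permanence_normal.cancel A AM C p L hC).2
  let Aq := Localization.AtPrime q
  have hle : M.primeCompl ≤ q.primeCompl := fun x hx h => hx (hqM h)
  letI : Algebra AM Aq := IsLocalization.localizationAlgebraOfSubmonoidLe AM Aq M.primeCompl q.primeCompl hle
  haveI : IsScalarTower Ah AM Aq := IsLocalization.localization_isScalarTower_of_submonoid_le AM Aq _ _ hle
  haveI : IsScalarTower A AM Aq := IsScalarTower.of_algebraMap_eq fun a => by
    rw [IsScalarTower.algebraMap_apply A Ah Aq, IsScalarTower.algebraMap_apply A Ah AM,
      ← IsScalarTower.algebraMap_apply Ah AM Aq]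
  haveI : IsLocalization (q.primeCompl.map (algebraMap Ah AM)) Aq :=
    IsLocalization.isLocalization_of_submonoid_le AM Aq M.primeCompl q.primeCompl hle
  letI : Algebra (L ⊗[A] AM) (L ⊗[A] Aq) :=
    (Algebra.TensorProduct.map (AlgHom.id A L) (IsScalarTower.toAlgHom A AM Aq)).toAlgebra
  haveI := isLocalization_map A L AM Aq (q.primeCompl.map (algebraMap Ah AM))
  exact isNormalRing_of_isLocalization
    ((q.primeCompl.map (algebraMap Ah AM)).map (Algebra.TensorProduct.includeRight (R := A) (A := L))) _ hB

/-- The fibres of `A → Â` are geometrically reduced. -/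
theorem geomReduced_adicCompletion (A : Type u) [CommRing A] [IsNoetherianRing A]
    (hA : ∀ (p : Ideal A) [p.IsPrime], EGA4.HasGeomReducedFormalFibres (Localization.AtPrime p)) (I : Ideal A)
    (p : Ideal A) [p.IsPrime] :
    Algebra.IsGeometricallyReduced p.ResidueField (p.Fiber (AdicCompletion I A)) := by
  rw [Algebra.isGeometricallyReduced_field_iff]
  let L := AlgebraicClosure p.ResidueField
  let Ah := AdicCompletion I A
  haveI : IsReduced (L ⊗[A] Ah) := by
    refine ⟨fun x hx => ?_⟩
    let J : Ideal Ah :=
      { carrier := {b | (Algebra.TensorProduct.includeRight (R := A) (A := L) b) * x = 0}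
        zero_mem' := by simp
        add_mem' := fun {a b} ha hb => by
          simp only [Set.mem_setOf_eq, map_add, add_mul] at ha hb ⊢
          rw [ha, hb, add_zero]
        smul_mem' := fun c a ha => by
          simp only [Set.mem_setOf_eq, smul_eq_mul, map_mul, mul_assoc] at ha ⊢
          rw [ha, mul_zero] }
    have hJ : J = ⊤ := by
      by_contra hne
      obtain ⟨M, hM, hJM⟩ := Ideal.exists_le_maximal J hne
      obtain ⟨m, _, _, _, _⟩ := exists_atMaximal A I M
      let AM := Localization.AtPrime M
      let C := EGA4.Cpl (Localization.AtPrime m)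
      haveI := reduced_field_tensor_cpl m (hA m) L
      let g := IsScalarTower.toAlgHom A AM C
      have hinj := injective_map_of_faithfullyFlat A AM C L
      haveI : IsReduced (L ⊗[A] AM) := isReduced_of_injective _ hinj
      letI : Algebra (L ⊗[A] Ah) (L ⊗[A] AM) :=
        (Algebra.TensorProduct.map (AlgHom.id A L) (IsScalarTower.toAlgHom A Ah AM)).toAlgebra
      haveI := isLocalization_map A L Ah AM M.primeCompl
      obtain ⟨⟨_, b, hb, rfl⟩, hbx⟩ := (IsLocalization.map_eq_zero_iff
        (M.primeCompl.map (Algebra.TensorProduct.includeRight (R := A) (A := L))) (L ⊗[A] AM) x).mp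
        (hx.map (algebraMap (L ⊗[A] Ah) (L ⊗[A] AM))).eq_zero
      exact hb (hJM hbx)
    have h1 : (1 : Ah) ∈ J := hJ ▸ Submodule.mem_top
    simpa [J, ← Algebra.TensorProduct.one_def] using h1
  let e := Algebra.TensorProduct.cancelBaseChange A p.ResidueField L L Ah
  exact isReduced_of_injective e e.injective

end Groth.Agent.FormalFib6
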