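import Groth.Agent.FormalFib6.Quot
import Groth.Agent.FlatLoc6.GeomComp
import Groth.Agent.FlatLoc6.TensorField
import Groth.Agent.FBaseLib.Reduced

/-!
# Fibre properties along localizations and quotients of the base
-/

namespace Groth.Agent.FormalFib6

universe u

open TensorProduct FlatLoc6

variable {A' B₁ B₂ : Type u} [CommRing A'] [CommRing B₁] [CommRing B₂] [Algebra A' B₁] [Algebra A' B₂]

/-- The fibres of isomorphic algebras. -/
noncomputable def fiberCongr (e : B₁ ≃ₐ[A'] B₂) (p : Ideal A') [p.IsPrime] :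
    p.Fiber B₁ ≃ₐ[p.ResidueField] p.Fiber B₂ :=
  Algebra.TensorProduct.congr AlgEquiv.refl e

theorem isNormalHom_of_algEquiv (e : B₁ ≃ₐ[A'] B₂) (h : EGA4.IsNormalHom A' B₁) : EGA4.IsNormalHom A' B₂ := by
  refine ⟨haveI := h.1; Module.Flat.of_linearEquiv e.toLinearEquiv.symm, fun p _ L _ _ hL => ?_⟩
  exact isNormalRing_of_ringEquiv (R := L ⊗[p.ResidueField] p.Fiber B₁)
    (Algebra.TensorProduct.congr (AlgEquiv.refl (R := L) (A₁ := L)) (fiberCongr e p)).toRingEquiv (h.2 p L hL)

theorem isRegularHom_of_algEquiv (e : B₁ ≃ₐ[A'] B₂) (h : CAlg.IsRegularHom A' B₁) : CAlg.IsRegularHom A' B₂ := by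
  refine ⟨haveI := h.1; Module.Flat.of_linearEquiv e.toLinearEquiv.symm, fun p _ => ⟨?_, fun L _ _ hL => ?_⟩⟩
  · haveI := (h.2 p).1
    exact isNoetherianRing_of_ringEquiv _ (fiberCongr e p).toRingEquiv
  · haveI := (h.2 p).2 L hL
    exact IsRegularRing.of_ringEquiv (R := L ⊗[p.ResidueField] p.Fiber B₁)
      (Algebra.TensorProduct.congr (AlgEquiv.refl (R := L) (A₁ := L)) (fiberCongr e p)).toRingEquiv

theorem geomReduced_of_algEquiv (e : B₁ ≃ₐ[A'] B₂) (p : Ideal A') [p.IsPrime]
    [Algebra.IsGeometricallyReduced p.ResidueField (p.Fiber B₁)] :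
    Algebra.IsGeometricallyReduced p.ResidueField (p.Fiber B₂) :=
  Algebra.IsGeometricallyReduced.of_injective (fiberCongr e p).symm.toAlgHom (fiberCongr e p).symm.injective

section BaseChange

variable (A B C : Type u) [CommRing A] [CommRing B] [CommRing C] [Algebra A B] [Algebra A C]

/-- Geometrically reduced fibres are stable under any base change. -/
theorem geomReduced_baseChange
    (h : ∀ (p : Ideal A) [p.IsPrime], Algebra.IsGeometricallyReduced p.ResidueField (p.Fiber B))
    (p' : Ideal C) [p'.IsPrime] : Algebra.IsGeometricallyReduced p'.ResidueField (p'.Fiber (C ⊗[A] B)) := by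
  rw [Algebra.isGeometricallyReduced_field_iff]
  obtain ⟨_, _, _, _⟩ := exists_instances A C p' (AlgebraicClosure p'.ResidueField)
  obtain ⟨e⟩ := fiber_baseChange_equiv A B C p' (AlgebraicClosure p'.ResidueField) (p'.comap (algebraMap A C))
  haveI := h (p'.comap (algebraMap A C))
  haveI := FBaseLib.isReduced_field_tensor (k := (p'.comap (algebraMap A C)).ResidueField)
    ((p'.comap (algebraMap A C)).Fiber B) (AlgebraicClosure p'.ResidueField)
  exact isReduced_of_injective e e.injective

/-- Along a surjection of the base the fibres do not change. -/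
theorem fiber_equiv_of_surjective (hsurj : Function.Surjective (algebraMap A C)) (p' : Ideal C) [p'.IsPrime] :
    Nonempty ((p'.comap (algebraMap A C)).Fiber B ≃+* p'.Fiber (C ⊗[A] B)) := by
  let p := p'.comap (algebraMap A C)
  obtain ⟨_, hst⟩ := exists_residueAlgebra (L := p'.ResidueField) p (ker_algebraMap_over p' p'.ResidueField)
  obtain ⟨e⟩ := fiber_baseChange_equiv A B C p' p'.ResidueField p
  have hbij : Function.Bijective (algebraMap p.ResidueField p'.ResidueField) := by
    refine ⟨RingHom.injective _, fun x => ?_⟩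
    obtain ⟨a, b, -, rfl⟩ := IsFractionRing.div_surjective (C ⧸ p') x
    obtain ⟨a, rfl⟩ := Ideal.Quotient.mk_surjective a
    obtain ⟨b, rfl⟩ := Ideal.Quotient.mk_surjective b
    obtain ⟨a, rfl⟩ := hsurj a
    obtain ⟨b, rfl⟩ := hsurj b
    refine ⟨algebraMap A p.ResidueField a / algebraMap A p.ResidueField b, ?_⟩
    rw [map_div₀, ← IsScalarTower.algebraMap_apply A p.ResidueField p'.ResidueField,
      ← IsScalarTower.algebraMap_apply A p.ResidueField p'.ResidueField]
    simp [← Ideal.Quotient.algebraMap_eq, ← IsScalarTower.algebraMap_apply]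
  let ρ : p.ResidueField ≃ₐ[p.ResidueField] p'.ResidueField := AlgEquiv.ofBijective (Algebra.ofId _ _) hbij
  exact ⟨((Algebra.TensorProduct.lid p.ResidueField (p.Fiber B)).symm.toRingEquiv.trans
    ((Algebra.TensorProduct.congr ρ (AlgEquiv.refl (R := p.ResidueField) (A₁ := p.Fiber B))).toRingEquiv.trans e.symm)).trans
    (Algebra.TensorProduct.lid p'.ResidueField (p'.Fiber (C ⊗[A] B))).toRingEquiv⟩

end BaseChange

section Localization

variable (A B : Type u) [CommRing A] [CommRing B] [Algebra A B] (S : Submonoid A)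
  (C D : Type u) [CommRing C] [CommRing D] [Algebra A C] [Algebra B D] [Algebra C D] [Algebra A D]
  [IsScalarTower A C D] [IsScalarTower A B D] [IsLocalization S C]
  [IsLocalization (Algebra.algebraMapSubmonoid B S) D]

include S in
theorem exists_localizationEquiv : Nonempty (C ⊗[A] B ≃ₐ[C] D) := by
  haveI : Algebra.IsPushout A C B D := (Algebra.isPushout_of_isLocalization S C B D).symm
  exact ⟨Algebra.IsPushout.equiv A C B D⟩

end Localization

end Groth.Agent.FormalFib6
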