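import Groth.Agent.FlatLoc6.Cpl
import Groth.Agent.Adic7.Basic
import Mathlib.RingTheory.AdicCompletion.LocalRing
import Mathlib.RingTheory.AdicCompletion.RingHom
import Mathlib.RingTheory.TensorProduct.Finite

/-!
# The completion of a quotient of a Noetherian local ring
-/

namespace Groth.Agent.FormalFib6

universe u

open IsLocalRing TensorProduct

/-- The completion of a quotient is the base change of the completion. -/
theorem exists_cplQuotEquiv (A B : Type u) [CommRing A] [CommRing B] [IsNoetherianRing A] [IsNoetherianRing B]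
    [IsLocalRing A] [IsLocalRing B] [Algebra A B] (hsurj : Function.Surjective (algebraMap A B)) :
    Nonempty (B ⊗[A] EGA4.Cpl A ≃ₐ[B] EGA4.Cpl B) := by
  let m := maximalIdeal A
  let mB := maximalIdeal B
  have hm : mB = m.map (algebraMap A B) := (IsLocalRing.map_maximalIdeal_of_surjective _ hsurj).symm
  have fg : m.FG := IsNoetherian.noetherian _
  have fgB : mB.FG := IsNoetherian.noetherian _
  haveI : Module.Finite A B := Module.Finite.of_surjective (Algebra.linearMap A B) hsurj
  haveI := FlatLoc6.isNoetherianRing_cpl A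
  haveI hC : IsAdicComplete m (EGA4.Cpl A) := AdicCompletion.isAdicComplete fg
  haveI hC' : IsAdicComplete (m.map (algebraMap A (EGA4.Cpl A))) (EGA4.Cpl A) :=
    (IsAdicComplete.map_algebraMap_iff _ _).mpr hC
  haveI : IsAdicComplete (m.map (algebraMap A (EGA4.Cpl A))) (EGA4.Cpl A ⊗[A] B) :=
    Adic7.isAdicComplete_of_finite (A := EGA4.Cpl A) (m.map (algebraMap A (EGA4.Cpl A))) (EGA4.Cpl A ⊗[A] B)
  haveI : IsAdicComplete m (EGA4.Cpl A ⊗[A] B) :=
    (IsAdicComplete.map_algebraMap_iff (S := EGA4.Cpl A) m (EGA4.Cpl A ⊗[A] B)).mp inferInstance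
  let J : Ideal (EGA4.Cpl A ⊗[A] B) := m.map (algebraMap A (EGA4.Cpl A ⊗[A] B))
  haveI : IsAdicComplete J (EGA4.Cpl A ⊗[A] B) := (IsAdicComplete.map_algebraMap_iff _ _).mpr inferInstance
  let iB : B →+* EGA4.Cpl A ⊗[A] B :=
    (Algebra.TensorProduct.includeRight (R := A) (A := EGA4.Cpl A) (B := B)).toRingHom
  have hiB : iB.comp (algebraMap A B) = algebraMap A (EGA4.Cpl A ⊗[A] B) :=
    (Algebra.TensorProduct.includeRight (R := A) (A := EGA4.Cpl A) (B := B)).comp_algebraMap
  have hJ : ∀ n, mB ^ n ≤ (J ^ n).comap iB := fun n => by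
    rw [← Ideal.map_le_iff_le_comap, Ideal.map_pow, hm, Ideal.map_map, hiB]
  -- the map to the completion of the quotient
  have h1 : ∀ n, m ^ n ≤ (mB ^ n).comap (algebraMap A B) := fun n => by
    rw [← Ideal.map_le_iff_le_comap, Ideal.map_pow, hm]
  have hcompat : ∀ {i n : ℕ} (hle : i ≤ n), (Ideal.Quotient.factorPow mB hle).comp
      ((Ideal.quotientMap (mB ^ n) (algebraMap A B) (h1 n)).comp (AdicCompletion.evalₐ m n).toRingHom) =
      (Ideal.quotientMap (mB ^ i) (algebraMap A B) (h1 i)).comp (AdicCompletion.evalₐ m i).toRingHom := by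
    intro i n hle
    refine RingHom.ext fun x => ?_
    obtain ⟨g, rfl⟩ := AdicCompletion.mk_surjective m A x
    simp only [RingHom.comp_apply, AlgHom.toRingHom_eq_coe, RingHom.coe_coe, AdicCompletion.evalₐ_mk,
      Ideal.quotientMap_mk]
    show Ideal.Quotient.mk _ (algebraMap A B (g n)) = Ideal.Quotient.mk _ (algebraMap A B (g i))
    rw [Ideal.Quotient.eq, ← map_sub]
    refine h1 i ?_
    simpa using neg_mem (SModEq.sub_mem.1 (g.property hle))
  let F₀ : EGA4.Cpl A →+* EGA4.Cpl B := AdicCompletion.liftRingHom mB _ hcompat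
  let F : EGA4.Cpl A →ₐ[A] EGA4.Cpl B := AlgHom.mk F₀ fun a => by
    refine AdicCompletion.ext_evalₐ fun n => ?_
    show AdicCompletion.evalₐ mB n (F₀ (algebraMap A (EGA4.Cpl A) a)) = _
    rw [AdicCompletion.evalₐ_liftRingHom, RingHom.comp_apply, AlgHom.toRingHom_eq_coe, RingHom.coe_coe,
      AlgHom.commutes, IsScalarTower.algebraMap_apply A B (EGA4.Cpl B), AlgHom.commutes]
    rfl
  let Ψ : EGA4.Cpl A ⊗[A] B →ₐ[A] EGA4.Cpl B :=
    Algebra.TensorProduct.lift F (IsScalarTower.toAlgHom A B (EGA4.Cpl B)) fun _ _ => Commute.all _ _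
  -- the inverse
  have hcompat' : ∀ {i n : ℕ} (hle : i ≤ n), (Ideal.Quotient.factorPow J hle).comp
      ((Ideal.quotientMap (J ^ n) iB (hJ n)).comp (AdicCompletion.evalₐ mB n).toRingHom) =
      (Ideal.quotientMap (J ^ i) iB (hJ i)).comp (AdicCompletion.evalₐ mB i).toRingHom := by
    intro i n hle
    refine RingHom.ext fun x => ?_
    obtain ⟨g, rfl⟩ := AdicCompletion.mk_surjective mB B x
    simp only [RingHom.comp_apply, AlgHom.toRingHom_eq_coe, RingHom.coe_coe, AdicCompletion.evalₐ_mk,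
      Ideal.quotientMap_mk]
    show Ideal.Quotient.mk _ (iB (g n)) = Ideal.Quotient.mk _ (iB (g i))
    rw [Ideal.Quotient.eq, ← map_sub]
    refine hJ i ?_
    simpa using neg_mem (SModEq.sub_mem.1 (g.property hle))
  let G : EGA4.Cpl B →+* EGA4.Cpl A ⊗[A] B := IsAdicComplete.liftRingHom J _ hcompat'
  have hG : ∀ n x, Ideal.Quotient.mk (J ^ n) (G x) =
      Ideal.quotientMap (J ^ n) iB (hJ n) (AdicCompletion.evalₐ mB n x) := fun n x =>
    IsAdicComplete.mk_liftRingHom _ _ _ _ _
  have hΨJ : ∀ n, ∀ z ∈ J ^ n, AdicCompletion.evalₐ mB n (Ψ z) = 0 := by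
    intro n z hz
    have h2 : (J ^ n).map Ψ.toRingHom ≤ RingHom.ker (AdicCompletion.evalₐ mB n).toRingHom := by
      rw [← Ideal.map_pow, Ideal.map_map, show Ψ.toRingHom.comp (algebraMap A _) = algebraMap A (EGA4.Cpl B) from
        Ψ.comp_algebraMap, Ideal.map_le_iff_le_comap]
      intro a ha
      show AdicCompletion.evalₐ mB n (algebraMap A (EGA4.Cpl B) a) = 0
      rw [IsScalarTower.algebraMap_apply A B (EGA4.Cpl B), AlgHom.commutes]
      exact Ideal.Quotient.eq_zero_iff_mem.mpr (h1 n ha)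
    exact h2 (Ideal.mem_map_of_mem _ hz)
  have hleft : ∀ x, Ψ (G x) = x := fun x => by
    refine AdicCompletion.ext_evalₐ fun n => ?_
    obtain ⟨b, hb⟩ := Ideal.Quotient.mk_surjective (AdicCompletion.evalₐ mB n x)
    have h2 : G x - iB b ∈ J ^ n := by
      rw [← Ideal.Quotient.eq, hG, ← hb, Ideal.quotientMap_mk]
    have h3 := hΨJ n _ h2
    rw [map_sub, map_sub, sub_eq_zero] at h3
    rw [h3, ← hb, show Ψ (iB b) = algebraMap B (EGA4.Cpl B) b by simp [Ψ, iB], AlgHom.commutes]
    rfl
  have hright : ∀ z, G (Ψ z) = z := by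
    intro z
    induction z using TensorProduct.induction_on with
    | zero => simp only [map_zero]
    | tmul x b =>
      have hb : G (algebraMap B (EGA4.Cpl B) b) = iB b := by
        refine sub_eq_zero.mp ((IsHausdorff.haus' (I := J) _) fun n => ?_)
        rw [SModEq.zero, smul_eq_mul, Ideal.mul_top, ← Ideal.Quotient.eq, hG, AlgHom.commutes]
        rfl
      have hx : G (F x) = x ⊗ₜ[A] (1 : B) := by
        refine sub_eq_zero.mp ((IsHausdorff.haus' (I := J) _) fun n => ?_)
        obtain ⟨a, ha⟩ := Submodule.mkQ_surjective _ (AdicCompletion.eval m A n x)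
        have hxa : x - algebraMap A (EGA4.Cpl A) a ∈ (m ^ n).map (algebraMap A (EGA4.Cpl A)) := by
          rw [← LocalCrit.smul_top_eq_map, AdicCompletion.pow_smul_top_eq_ker_eval fg, LinearMap.mem_ker, map_sub,
            ← ha, sub_eq_zero]
          exact (AdicCompletion.eval_of _ _ n a).symm
        have h2 : (x - algebraMap A (EGA4.Cpl A) a) ⊗ₜ[A] (1 : B) ∈ J ^ n := by
          have := Ideal.mem_map_of_mem
            (Algebra.TensorProduct.includeLeft (R := A) (S := A) (A := EGA4.Cpl A) (B := B)).toRingHom hxa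
          rw [Ideal.map_map, show ((Algebra.TensorProduct.includeLeft (R := A) (S := A) (A := EGA4.Cpl A)
            (B := B)).toRingHom.comp (algebraMap A (EGA4.Cpl A))) = algebraMap A (EGA4.Cpl A ⊗[A] B) from
            (Algebra.TensorProduct.includeLeft (R := A) (S := A) (A := EGA4.Cpl A) (B := B)).comp_algebraMap,
            Ideal.map_pow] at this
          exact this
        have h3 : AdicCompletion.evalₐ mB n (F x) = Ideal.Quotient.mk _ (algebraMap A B a) := by
          obtain ⟨g, rfl⟩ := AdicCompletion.mk_surjective m A x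
          show AdicCompletion.evalₐ mB n (F₀ _) = _
          rw [AdicCompletion.evalₐ_liftRingHom, RingHom.comp_apply, AlgHom.toRingHom_eq_coe, RingHom.coe_coe,
            AdicCompletion.evalₐ_mk, Ideal.quotientMap_mk, Ideal.Quotient.eq, ← map_sub]
          refine h1 n ?_
          have ha' : Submodule.mkQ (m ^ n • ⊤ : Submodule A A) a = Submodule.mkQ _ (g n) := ha
          have := (Submodule.Quotient.eq _).mp ha'.symm
          simpa using this
        rw [SModEq.zero, smul_eq_mul, Ideal.mul_top]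
        have h4 : G (F x) - iB (algebraMap A B a) ∈ J ^ n := by
          rw [← Ideal.Quotient.eq, hG, h3, Ideal.quotientMap_mk]
        have h5 : iB (algebraMap A B a) = algebraMap A (EGA4.Cpl A) a ⊗ₜ[A] (1 : B) := by
          rw [← RingHom.comp_apply, hiB, Algebra.TensorProduct.algebraMap_apply]
        rw [show G (F x) - x ⊗ₜ[A] (1 : B) = (G (F x) - iB (algebraMap A B a)) -
          (x - algebraMap A (EGA4.Cpl A) a) ⊗ₜ[A] (1 : B) by rw [h5, sub_tmul]; ring]
        exact sub_mem h4 h2
      rw [Algebra.TensorProduct.lift_tmul, map_mul, hx, IsScalarTower.coe_toAlgHom', hb]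
      show x ⊗ₜ[A] (1 : B) * ((1 : EGA4.Cpl A) ⊗ₜ[A] b) = _
      rw [Algebra.TensorProduct.tmul_mul_tmul, mul_one, one_mul]
    | add u v hu hv => rw [map_add, map_add, hu, hv]
  let e : EGA4.Cpl A ⊗[A] B ≃+* EGA4.Cpl B :=
    { toFun := Ψ, invFun := G, left_inv := hright, right_inv := hleft,
      map_mul' := map_mul Ψ, map_add' := map_add Ψ }
  refine ⟨AlgEquiv.ofRingEquiv (f := (Algebra.TensorProduct.comm A B (EGA4.Cpl A)).toRingEquiv.trans e) fun b => ?_⟩
  show Ψ (Algebra.TensorProduct.comm A B (EGA4.Cpl A) (b ⊗ₜ[A] (1 : EGA4.Cpl A))) = _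
  simp [Ψ]

end Groth.Agent.FormalFib6
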